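import Groth.Agent.Lib.EtJ.PullSec
import Groth.Agent.Lib.EtSite.HensClosed
import Groth.Agent.Lib.HRes.Basic

/-!
# Pulled back sections along sections of base changes
-/

set_option autoImplicit false
set_option backward.isDefEq.respectTransparency false
set_option linter.style.haveILetI false

universe u

open CategoryTheory CategoryTheory.Limits AlgebraicGeometry Opposite

namespace Groth.Agent.Lib.LocAcyc50.Sect

open Groth.Agent.Lib.EtSite Groth.Agent.Lib.EtJ

variable {A B C : Scheme.{u}}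

/-- The section of a base change given by a lift. -/
noncomputable def lft (f : A ⟶ B) (V : B.Etale) (t : A ⟶ V.left) (ht : t ≫ V.hom = f) :
    EtCoh.top A ⟶ (EtCoh.bc f).obj V :=
  MorphismProperty.Over.homMk (pullback.lift (f := V.hom) (g := f) t (𝟙 A) (ht.trans (Category.id_comp f).symm))
    (pullback.lift_snd _ _ _)

/-- The pullback of a section over `V` along a lift. -/
noncomputable def gsec (f : A ⟶ B) (F : EtCoh.Ab B) (V : B.Etale) (t : A ⟶ V.left) (ht : t ≫ V.hom = f)
    (s : EtCoh.sect F V) : EtCoh.sect ((EtCoh.pull f).obj F) (EtCoh.top A) :=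
  ((EtCoh.pull f).obj F).obj.map (lft f V t ht).op (HensClosed.unitAt f F V s)

theorem map_map {X : Scheme.{u}} (F : EtCoh.Ab X) {U V W : X.Etale} (a : V ⟶ U) (b : W ⟶ V)
    (c : W ⟶ U) (h : b ≫ a = c) (x : EtCoh.sect F U) :
    F.obj.map b.op (F.obj.map a.op x) = F.obj.map c.op x := by
  subst h
  rw [op_comp, Functor.map_comp]
  rfl

theorem gsec_congr (f : A ⟶ B) (F : EtCoh.Ab B) (V : B.Etale) {t t' : A ⟶ V.left} (h : t = t')
    (ht : t ≫ V.hom = f) (ht' : t' ≫ V.hom = f) (s : EtCoh.sect F V) :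
    gsec f F V t ht s = gsec f F V t' ht' s := by
  subst h; rfl

/-- Pullback commutes with restriction. -/
theorem gsec_map (f : A ⟶ B) (F : EtCoh.Ab B) {V V' : B.Etale} (a : V' ⟶ V) (t : A ⟶ V'.left)
    (ht : t ≫ V'.hom = f) (ht' : (t ≫ a.left) ≫ V.hom = f) (s : EtCoh.sect F V) :
    gsec f F V' t ht (F.obj.map a.op s) = gsec f F V (t ≫ a.left) ht' s := by
  refine (congrArg (((EtCoh.pull f).obj F).obj.map (lft f V' t ht).op) (HensClosed.unitAt_map f F a s)).trans ?_
  refine map_map _ _ _ _ (MorphismProperty.Over.Hom.ext (pullback.hom_ext ?_ ?_)) _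
  · refine Eq.trans ?_ (pullback.lift_fst (f := V.hom) (g := f) _ _ _).symm
    refine (Category.assoc _ _ _).trans ((congrArg ((lft f V' t ht).left ≫ ·) (pullback.lift_fst _ _ _)).trans ?_)
    exact (Category.assoc _ _ _).symm.trans (congrArg (· ≫ a.left) (pullback.lift_fst _ _ _))
  · refine Eq.trans ?_ (pullback.lift_snd (f := V.hom) (g := f) _ _ _).symm
    refine (Category.assoc _ _ _).trans ((congrArg ((lft f V' t ht).left ≫ ·)
      (show ((EtCoh.bc f).map a).left ≫ pullback.snd V.hom f = pullback.snd V'.hom f from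
        MorphismProperty.Over.w ((EtCoh.bc f).map a))).trans ?_)
    exact pullback.lift_snd _ _ _

theorem gsec_natural (f : A ⟶ B) {F G : EtCoh.Ab B} (φ : F ⟶ G) (V : B.Etale) (t : A ⟶ V.left)
    (ht : t ≫ V.hom = f) (s : EtCoh.sect F V) :
    gsec f G V t ht (φ.hom.app (op V) s) =
      ((EtCoh.pull f).map φ).hom.app (op (EtCoh.top A)) (gsec f F V t ht s) := by
  have h1 := ConcreteCategory.congr_hom (congrArg (fun m => m.hom.app (op V))
    ((EtCoh.pullPushAdj f).unit.naturality φ)) s
  refine (congrArg (((EtCoh.pull f).obj G).obj.map (lft f V t ht).op) h1).trans ?_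
  exact (NatTrans.naturality_apply ((EtCoh.pull f).map φ).hom (lft f V t ht).op _).symm

/-- Pullbacks of sections compose. -/
theorem gsec_comp (f : A ⟶ B) (g : B ⟶ C) (f₀ : A ⟶ C) (w : f ≫ g = f₀) (G : EtCoh.Ab C) (V : C.Etale)
    (t : A ⟶ V.left) (ht : t ≫ V.hom = f₀)
    (ht' : pullback.lift (f := V.hom) (g := g) t f (ht.trans w.symm) ≫ ((EtCoh.bc g).obj V).hom = f)
    (s : EtCoh.sect G V) :
    (((EtCore.pullComp f g).symm ≪≫ EtCore.pullCongr w).app G).hom.hom.app (op (EtCoh.top A))
        (gsec f ((EtCoh.pull g).obj G) ((EtCoh.bc g).obj V)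
          (pullback.lift (f := V.hom) (g := g) t f (ht.trans w.symm)) ht' (HensClosed.unitAt g G V s)) =
      gsec f₀ G V t ht s := by
  subst w
  let c := (((EtCore.pullComp f g).symm ≪≫ EtCore.pullCongr (rfl : f ≫ g = f ≫ g)).app G).hom
  have hc : c = (EtCore.pullComp f g).inv.app G := by
    simp [c, EtCore.pullCongr]
  let e : (EtCoh.bc g ⋙ EtCoh.bc f) ≅ EtCoh.bc (f ≫ g) :=
    (MorphismProperty.Over.pullbackComp (P := EtCoh.etaleMP) (Q := ⊤) f g (f ≫ g)).symm
  have h := Adjunction.unit_leftAdjointUniq_hom_app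
    (((EtCoh.pullPushAdj g).comp (EtCoh.pullPushAdj f)).ofNatIsoRight (EtCoh.pushComp g f))
    (EtCoh.pullPushAdj (f ≫ g)) G
  have h' := ConcreteCategory.congr_hom (congr_arg (fun m => m.hom.app (op V)) h) s
  let P := (EtCoh.pull f).obj ((EtCoh.pull g).obj G)
  let y := HensClosed.unitAt g G V s
  let x := HensClosed.unitAt f ((EtCoh.pull g).obj G) ((EtCoh.bc g).obj V) y
  have hu : (((((EtCoh.pullPushAdj g).comp (EtCoh.pullPushAdj f)).ofNatIsoRight
      (EtCoh.pushComp g f)).unit.app G).hom.app (op V)) s = P.obj.map (e.inv.app V).op x := by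
    simp [Adjunction.ofNatIsoRight, Adjunction.comp, EtCoh.pushComp, P, x, y, e]
    rfl
  have hs : gsec (f ≫ g) G V t ht s =
      c.hom.app (op (EtCoh.top A)) (P.obj.map (lft (f ≫ g) V t ht).op
        (P.obj.map (e.inv.app V).op x)) := by
    refine (congrArg (((EtCoh.pull (f ≫ g)).obj G).obj.map (lft (f ≫ g) V t ht).op) h'.symm).trans ?_
    refine (congrArg (fun z => ((EtCoh.pull (f ≫ g)).obj G).obj.map (lft (f ≫ g) V t ht).op
      (((EtCore.pullComp f g).inv.app G).hom.app (op ((EtCoh.bc (f ≫ g)).obj V)) z)) hu).trans ?_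
    rw [hc]
    exact (ConcreteCategory.congr_hom
      (((EtCore.pullComp f g).inv.app G).hom.naturality (lft (f ≫ g) V t ht).op) _).symm
  rw [hs]
  refine congrArg (c.hom.app (op (EtCoh.top A))) ?_
  refine Eq.trans ?_ (map_map P (e.inv.app V) (lft (f ≫ g) V t ht)
    (lft f ((EtCoh.bc g).obj V) (pullback.lift (f := V.hom) (g := g) t f ht) ht') ?_ x).symm
  · rfl
  refine MorphismProperty.Over.Hom.ext (pullback.hom_ext (pullback.hom_ext ?_ ?_) ?_)
  · have e1 := MorphismProperty.Over.pullbackComp_left_fst_fst (P := EtCoh.etaleMP) (Q := ⊤) f g V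
    simp only [MorphismProperty.Comma.comp_hom, CategoryTheory.Comma.comp_left, Category.assoc]
    refine ((congrArg ((lft (f ≫ g) V t ht).left ≫ ·) e1).trans (pullback.lift_fst _ _ _)).trans ?_
    exact ((pullback.lift_fst _ _ _ =≫ _).trans (pullback.lift_fst _ _ _)).symm.trans (Category.assoc _ _ _)
  · simp only [MorphismProperty.Comma.comp_hom, CategoryTheory.Comma.comp_left, Category.assoc]
    have k1 := pullback.condition (f := ((EtCoh.bc g).obj V).hom) (g := f)
    have k2 : (lft (f ≫ g) V t ht).left ≫ (e.inv.app V).left ≫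
        pullback.snd ((EtCoh.bc g).obj V).hom f = 𝟙 A :=
      (congrArg ((lft (f ≫ g) V t ht).left ≫ ·) (MorphismProperty.Over.w (e.inv.app V))).trans
        (pullback.lift_snd _ _ _)
    refine ((congrArg (fun m => (lft (f ≫ g) V t ht).left ≫ (e.inv.app V).left ≫ m) k1).trans ?_).trans
      (((pullback.lift_fst _ _ _ =≫ _).trans (pullback.lift_snd _ _ _)).symm.trans (Category.assoc _ _ _))
    simp only [← Category.assoc] at k2 ⊢
    rw [k2]
    exact Category.id_comp f
  · exact ((MorphismProperty.Over.w (lft (f ≫ g) V t ht ≫ e.inv.app V)).trans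
      (pullback.lift_snd _ _ _).symm)

/-- The pullback of global sections. -/
noncomputable def gtop (f : A ⟶ B) (G : EtCoh.Ab B) (s : EtCoh.sect G (EtCoh.top B)) :
    EtCoh.sect ((EtCoh.pull f).obj G) (EtCoh.top A) :=
  gsec f G (EtCoh.top B) f (Category.comp_id f) s

theorem gtop_eq_pullSec (f : A ⟶ B) (G : EtCoh.Ab B) (s : EtCoh.sect G (EtCoh.top B)) :
    gtop f G s = PullSec.pullSec f (EtCoh.top B) (EtCore.bcTopIsTerminal f) G s := by
  rw [PullSec.pullSec_apply, gtop, gsec, HensClosed.unitAt,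
    (EtCore.bcTopIsTerminal f).hom_ext (lft f _ f (Category.comp_id f)) ((EtCore.bcTopIsTerminal f).from _)]

/-- Degree zero bijectivity of pullback gives bijectivity on global sections. -/
theorem gtop_bijective (f : A ⟶ B) [PreservesFiniteLimits (EtCoh.pull f)] (G : EtCoh.Ab B)
    (h : Function.Bijective (EtCore.Hpull f G 0)) : Function.Bijective (gtop f G) := by
  let eB : EtCoh.sect G (EtCoh.top B) → EtCoh.H B G 0 :=
    fun s => Abelian.Ext.mk₀ ((PullSec.elem B G).symm s)
  let eA : EtCoh.sect ((EtCoh.pull f).obj G) (EtCoh.top A) → EtCoh.H A ((EtCoh.pull f).obj G) 0 :=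
    fun s => Abelian.Ext.mk₀ ((PullSec.elem A _).symm s)
  have hA : Function.Bijective eA :=
    (Abelian.Ext.mk₀_bijective _ _).comp (PullSec.elem A _).symm.bijective
  have hB : Function.Bijective eB :=
    (Abelian.Ext.mk₀_bijective _ _).comp (PullSec.elem B _).symm.bijective
  have hcomm : eA ∘ gtop f G = EtCore.Hpull f G 0 ∘ eB := by
    funext s
    change Abelian.Ext.mk₀ _ = (Abelian.Ext.mk₀ (EtCore.pullConst f ℤ).inv).comp
      ((Abelian.Ext.mk₀ ((PullSec.elem B G).symm s)).mapExactFunctor (EtCoh.pull f)) (zero_add 0)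
    rw [Abelian.Ext.mapExactFunctor_mk₀, Abelian.Ext.mk₀_comp_mk₀]
    refine congrArg Abelian.Ext.mk₀ ((PullSec.elem A _).injective ?_)
    rw [AddEquiv.apply_symm_apply, PullSec.elem_pull, AddEquiv.apply_symm_apply, gtop_eq_pullSec]
  exact (Function.Bijective.of_comp_iff' hA _).1 (hcomm ▸ h.comp hB)

theorem bijective_app {X : Scheme.{u}} {F G : EtCoh.Ab X} (e : F ≅ G) (U : X.Etale) :
    Function.Bijective (e.hom.hom.app (op U)) :=
  (((sheafToPresheaf _ _).mapIso e).app (op U)).addCommGroupIsoToAddEquiv.bijective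

theorem gtop_bijective_of_iso (f : A ⟶ B) {G G' : EtCoh.Ab B} (e : G ≅ G')
    (h : Function.Bijective (gtop f G)) : Function.Bijective (gtop f G') := by
  have hcomm : gtop f G' ∘ e.hom.hom.app (op (EtCoh.top B)) =
      ((EtCoh.pull f).mapIso e).hom.hom.app (op (EtCoh.top A)) ∘ gtop f G := by
    funext s
    exact gsec_natural f e.hom (EtCoh.top B) f (Category.comp_id f) s
  exact (Function.Bijective.of_comp_iff _ (bijective_app e _)).1 (hcomm ▸ (bijective_app _ _).comp h)

end Groth.Agent.Lib.LocAcyc50.Sect
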