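import Groth.Agent.Lib.RpushStalk50.Ident
import Groth.Agent.Lib.EtSite.FieldExt

/-!
# Strict localizations of a base change to a strictly local scheme
-/

set_option autoImplicit false
set_option backward.isDefEq.respectTransparency false
set_option linter.style.haveILetI false

universe u

open CategoryTheory CategoryTheory.Limits AlgebraicGeometry Opposite IsLocalRing

namespace Groth.Agent.Lib.LocAcyc50.Model

open Groth.Agent.Lib.EtSite Groth.Agent.Lib.EtSite.Basic Groth.Agent.Lib.EtLim50
open Groth.Agent.Lib.PBC50 Groth.Agent.Lib.RpushStalk50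
open Groth.Agent.Lib.Henselian.StrictHenselization

theorem pt_base {X : Scheme.{u}} {Ω : Type u} [Field Ω] [IsSepClosed Ω]
    (η : Spec (CommRingCat.of Ω) ⟶ X) :
    (Limit.pt η).base default = closedPoint (EtBase.etaleLocalRing η) := by
  haveI : IsLocalHom (LocalRing.ev η).hom :=
    ⟨fun z hz => LocalRing.isUnit_of_ev_ne_zero η z hz.ne_zero⟩
  rw [Subsingleton.elim (default : Spec (CommRingCat.of Ω)) (closedPoint _)]
  exact IsLocalRing.comap_closedPoint (LocalRing.ev η).hom

/-- Maps from a local ring sending the closed point to a point factor through the stalk. -/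
theorem exists_stalk_factor {X : Scheme.{u}} {T : Type u} [CommRing T] [IsLocalRing T]
    (g : Spec (CommRingCat.of T) ⟶ X) (x : X) (hx : g.base (closedPoint T) = x) :
    ∃ c : X.presheaf.stalk x →+* T, IsLocalHom c ∧
      Spec.map (CommRingCat.ofHom c) ≫ X.fromSpecStalk x = g := by
  subst hx
  exact ⟨(Scheme.stalkClosedPointTo g).hom, inferInstance,
    Scheme.Spec_stalkClosedPointTo_fromSpecStalk g⟩

/-- A field point through a section factors through it. -/
theorem comp_eq_of_fiber {R : Type u} [CommRing R] [IsLocalRing R] {U : Scheme.{u}}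
    (g : U ⟶ Spec (CommRingCat.of R)) (a : Spec (CommRingCat.of (ResidueField R)) ⟶ U)
    (ha : a ≫ g = Ident.cpt R) {Ω : Type u} [Field Ω]
    (e : Spec (CommRingCat.of Ω) ⟶ Spec (CommRingCat.of (ResidueField R)))
    (Q : Spec (CommRingCat.of Ω) ⟶ U) (hQ : Q ≫ g = e ≫ Ident.cpt R)
    (hb : Q.base default = a.base default) : Q = e ≫ a := by
  haveI : IsClosedImmersion (Ident.cpt R) :=
    IsClosedImmersion.spec_of_surjective _ Ideal.Quotient.mk_surjective
  let s : Spec (CommRingCat.of (ResidueField R)) ⟶ pullback g (Ident.cpt R) :=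
    pullback.lift a (𝟙 _) (ha.trans (Category.id_comp _).symm)
  let l : Spec (CommRingCat.of Ω) ⟶ pullback g (Ident.cpt R) := pullback.lift Q e hQ
  have hl : l.base default = s.base default := by
    refine (pullback.fst g (Ident.cpt R)).isClosedEmbedding.injective ?_
    rw [← Scheme.Hom.comp_apply, ← Scheme.Hom.comp_apply, pullback.lift_fst, pullback.lift_fst]
    exact hb
  have h := FieldExt.eq_comp_section (pullback.lift_snd _ _ _ : s ≫ pullback.snd g (Ident.cpt R) = 𝟙 _) l hl
  have h' := congrArg (· ≫ pullback.fst g (Ident.cpt R)) h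
  rw [pullback.lift_fst, pullback.lift_snd, Category.assoc, pullback.lift_fst] at h'
  exact h'

variable {X S : Scheme.{u}} (f : X ⟶ S) (s : S) (RS : Type u) [CommRing RS] [IsLocalRing RS]
  [Algebra (S.presheaf.stalk s) RS] [IsLocalHom (algebraMap (S.presheaf.stalk s) RS)]
  [Hensel.IsStrictHenselization (S.presheaf.stalk s) RS]
  {X' : Scheme.{u}} (f' : X' ⟶ Spec (CommRingCat.of RS)) (p : X' ⟶ X)
  (cX : IsPullback p f' f (Hens2.specOf S s RS))
  {Ω' : Type u} [Field Ω'] [IsSepClosed Ω'] (ξ : Spec (CommRingCat.of Ω') ⟶ X')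
  (hξ : (ξ ≫ f').base default = closedPoint RS)

set_option maxHeartbeats 1000000 in
include cX hξ in
/-- The strict localization of `X'` at `ξ` is a strict localization of `X`. -/
theorem exists_model :
    ∃ (x : X) (hs : f.base x = s) (R : Type u) (_ : CommRing R) (_ : IsLocalRing R)
      (_ : Algebra (X.presheaf.stalk x) R) (_ : IsLocalHom (algebraMap (X.presheaf.stalk x) R))
      (_ : Hensel.IsStrictHenselization (X.presheaf.stalk x) R)
      (χ : RS →+* R) (_ : IsLocalHom χ)
      (j : Nbhds.S X' ξ ⟶ Spec (CommRingCat.of R)),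
      IsIso j ∧ j ≫ Hens2.specOf X x R = Limit.σ ξ ≫ p ∧
        j ≫ Spec.map (CommRingCat.ofHom χ) = Limit.σ ξ ≫ f' ∧
        χ.comp (algebraMap (S.presheaf.stalk s) RS) =
          (algebraMap (X.presheaf.stalk x) R).comp
            ((S.presheaf.stalkSpecializes (Inseparable.of_eq hs).specializes ≫ f.stalkMap x).hom) := by
  let T := EtBase.etaleLocalRing ξ
  let σ := Limit.σ ξ
  haveI : HenselianLocalRing T := (LocalRing.isStrictlyHenselianLocalRing ξ).1
  haveI : IsSepClosed (ResidueField T) := LocalRing.isSepClosed_residueField ξ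
  haveI : IsLocalHom (LocalRing.ev ξ).hom :=
    ⟨fun z hz => LocalRing.isUnit_of_ev_ne_zero ξ z hz.ne_zero⟩
  have hσ : σ.base (closedPoint T) = ξ.base default := by
    rw [← pt_base ξ]
    exact congr($(Limit.pt_σ ξ) default)
  let x : X := p.base (ξ.base default)
  have hs : f.base x = s := by
    refine (congr($(cX.w) (ξ.base default)) : _).trans ?_
    refine (congrArg (Hens2.specOf S s RS).base hξ).trans ?_
    exact StrictLocLift.specOf_closedPoint s RS _ rfl
  obtain ⟨c, hcl, hc⟩ := exists_stalk_factor (T := T) (σ ≫ p) x (congrArg p.base hσ)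
  obtain ⟨χT, hχT⟩ := Spec.map_surjective (σ ≫ f')
  haveI hχTl : IsLocalHom χT.hom := by
    refine (IsLocalRing.local_hom_TFAE χT.hom).out 4 0 |>.1 ?_
    have h : (Spec.map χT).base (closedPoint T) = closedPoint RS := by
      rw [hχT]
      exact (congrArg f'.base hσ).trans hξ
    exact congrArg PrimeSpectrum.asIdeal h
  let m := S.presheaf.stalkSpecializes (Inseparable.of_eq hs).specializes ≫ f.stalkMap x
  have hm : Spec.map m ≫ S.fromSpecStalk s = X.fromSpecStalk x ≫ f := by
    rw [Spec.map_comp, Category.assoc, Scheme.SpecMap_stalkSpecializes_fromSpecStalk,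
      Scheme.SpecMap_stalkMap_fromSpecStalk]
  have hc2 : χT.hom.comp (algebraMap (S.presheaf.stalk s) RS) = c.comp m.hom := by
    have h : CommRingCat.ofHom (algebraMap (S.presheaf.stalk s) RS) ≫ χT = m ≫ CommRingCat.ofHom c := by
      apply Spec.map_injective
      rw [← cancel_mono (S.fromSpecStalk s), Spec.map_comp, Spec.map_comp, Category.assoc,
        Category.assoc, hm, ← Category.assoc (Spec.map (CommRingCat.ofHom c)), hc, hχT,
        Category.assoc, Category.assoc, cX.w]
    exact congrArg CommRingCat.Hom.hom h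
  haveI : IsLocalHom m.hom := by
    haveI : IsLocalHom (S.presheaf.stalkSpecializes (Inseparable.of_eq hs).specializes).hom := by
      subst hs
      rw [TopCat.Presheaf.stalkSpecializes_refl]
      exact inferInstanceAs (IsLocalHom (RingHom.id _))
    haveI : IsLocalHom (f.stalkMap x).hom := inferInstance
    change IsLocalHom ((f.stalkMap x).hom.comp
      (S.presheaf.stalkSpecializes (Inseparable.of_eq hs).specializes).hom)
    exact RingHom.isLocalHom_comp _ _
  let A := X.presheaf.stalk x
  let R : Type u := StrictHenselization A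
  haveI : IsSepClosed (ResidueField R) :=
    (Hensel.IsStrictHenselization.isSepClosure (R := A) (S := R)).sep_closed
  letI : Algebra A (ResidueField A) := (residue A).toAlgebra
  letI : Algebra (ResidueField A) (ResidueField T) := (ResidueField.map c).toAlgebra
  obtain ⟨ψ, hψ'⟩ := StrictLocLift.exists_point (A := A) (R := R) (ResidueField A) (ResidueField T)
  have hψ : ψ.comp (algebraMap A R) = (residue T).comp c :=
    hψ'.trans (RingHom.ext fun _ => rfl)
  haveI : IsLocalHom ψ := by
    refine ⟨fun r hr => ?_⟩
    by_contra hn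
    have hr' : r ∈ (maximalIdeal A).map (algebraMap A R) := by
      rw [map_maximalIdeal A R]
      exact (mem_maximalIdeal r).2 hn
    have h0 : (maximalIdeal A).map (algebraMap A R) ≤ RingHom.ker ψ := by
      refine Ideal.map_le_iff_le_comap.2 fun a ha => ?_
      rw [Ideal.mem_comap, RingHom.mem_ker, ← RingHom.comp_apply, hψ, RingHom.comp_apply,
        residue_eq_zero_iff]
      exact (mem_maximalIdeal _).2 fun hu => (mem_maximalIdeal a).1 ha (hcl.map_nonunit a hu)
    exact hr.ne_zero (h0 hr')
  obtain ⟨φ, ⟨hφc, hφψ⟩, -⟩ := StrictLocLift.existsUnique_hom c ψ hψ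
  let κψ : ResidueField R →+* ResidueField T := IsLocalRing.ResidueField.lift ψ
  -- the image of `RS` in the residue field of `T` lies in that of `R`
  have hrange : ∀ r : RS, ∃ z : ResidueField R, κψ z = residue T (χT.hom r) := by
    intro r
    letI : Algebra (S.presheaf.stalk s) (ResidueField (S.presheaf.stalk s)) := (residue _).toAlgebra
    letI : Algebra (ResidueField (S.presheaf.stalk s)) (ResidueField RS) :=
      (ResidueField.map (algebraMap (S.presheaf.stalk s) RS)).toAlgebra
    letI : Algebra (S.presheaf.stalk s) (ResidueField RS) :=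
      ((residue RS).comp (algebraMap (S.presheaf.stalk s) RS)).toAlgebra
    haveI : IsScalarTower (S.presheaf.stalk s) (ResidueField (S.presheaf.stalk s)) (ResidueField RS) :=
      IsScalarTower.of_algebraMap_eq fun _ => rfl
    let res : RS →ₐ[S.presheaf.stalk s] ResidueField RS :=
      { residue RS with commutes' := fun _ => rfl }
    haveI : Algebra.IsSeparable (ResidueField (S.presheaf.stalk s)) (ResidueField RS) :=
      StrictLocLift.isSeparable_of_generated res fun l => by
        obtain ⟨b, rfl⟩ := Ideal.Quotient.mk_surjective l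
        exact Algebra.subset_adjoin ⟨b, rfl⟩
    letI : Algebra (ResidueField (S.presheaf.stalk s)) (ResidueField R) :=
      (ResidueField.map ((algebraMap A R).comp m.hom)).toAlgebra
    letI : Algebra (ResidueField R) (ResidueField T) := κψ.toAlgebra
    letI : Algebra (ResidueField (S.presheaf.stalk s)) (ResidueField T) :=
      (κψ.comp (algebraMap (ResidueField (S.presheaf.stalk s)) (ResidueField R))).toAlgebra
    haveI : IsScalarTower (ResidueField (S.presheaf.stalk s)) (ResidueField R) (ResidueField T) :=
      IsScalarTower.of_algebraMap_eq fun _ => rfl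
    let τ : ResidueField RS →ₐ[ResidueField (S.presheaf.stalk s)] ResidueField T :=
      { ResidueField.map χT.hom with
        commutes' := fun a => by
          obtain ⟨a, rfl⟩ := Ideal.Quotient.mk_surjective a
          change residue T (χT.hom (algebraMap (S.presheaf.stalk s) RS a)) = ψ (algebraMap A R (m.hom a))
          rw [← RingHom.comp_apply χT.hom, hc2, RingHom.comp_apply, ← RingHom.comp_apply ψ, hψ,
            RingHom.comp_apply] }
    have hsep : IsSeparable (ResidueField (S.presheaf.stalk s)) (τ (residue RS r)) :=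
      IsSeparable.map τ τ.toRingHom.injective (Algebra.IsSeparable.isSeparable _ _)
    have hsep' : IsSeparable (ResidueField R) (residue T (χT.hom r)) :=
      IsSeparable.tower_top (ResidueField R) hsep
    have hdeg := IsSepClosed.degree_eq_one_of_irreducible (ResidueField R)
      (minpoly.irreducible hsep'.isIntegral) hsep'
    obtain ⟨z, hz⟩ := minpoly.mem_range_of_degree_eq_one (ResidueField R) _ hdeg
    exact ⟨z, hz⟩
  choose zS hzS using hrange
  let ψS : RS →+* ResidueField R :=
    { toFun := zS
      map_one' := κψ.injective (by rw [hzS, map_one, map_one, map_one])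
      map_mul' := fun a b => κψ.injective (by rw [hzS, map_mul, map_mul, map_mul, hzS, hzS])
      map_zero' := κψ.injective (by rw [hzS, map_zero, map_zero, map_zero])
      map_add' := fun a b => κψ.injective (by rw [hzS, map_add, map_add, map_add, hzS, hzS]) }
  have hψS : ψS.comp (algebraMap (S.presheaf.stalk s) RS) =
      (residue R).comp ((algebraMap A R).comp m.hom) := RingHom.ext fun a => κψ.injective (by
    refine (hzS _).trans ?_
    rw [← RingHom.comp_apply χT.hom, hc2]
    exact (congrArg (fun g : A →+* ResidueField T => g (m.hom a)) hψ).symm)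
  obtain ⟨χ, ⟨hχc, hχψ⟩, -⟩ := StrictLocLift.existsUnique_hom ((algebraMap A R).comp m.hom) ψS hψS
  have hφχ : φ.comp χ = χT.hom := by
    have hψχ : ((residue T).comp χT.hom).comp (algebraMap (S.presheaf.stalk s) RS) =
        (residue T).comp (c.comp m.hom) := by rw [RingHom.comp_assoc, hc2]
    refine (StrictLocLift.existsUnique_hom (c.comp m.hom) ((residue T).comp χT.hom) hψχ).unique
      ⟨?_, ?_⟩ ⟨hc2, rfl⟩
    · rw [RingHom.comp_assoc, hχc, ← RingHom.comp_assoc, hφc]
    · rw [← RingHom.comp_assoc, hφψ]
      refine RingHom.ext fun r => ?_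
      exact (congrArg κψ (RingHom.congr_fun hχψ r)).trans (hzS r)
  haveI : IsLocalHom χ := ⟨fun r hr => hχTl.map_nonunit r (hφχ ▸ hr.map φ)⟩
  let j : Spec T ⟶ Spec (CommRingCat.of R) := Spec.map (CommRingCat.ofHom φ)
  have hj1 : j ≫ Hens2.specOf X x R = σ ≫ p := by
    rw [← hc, ← Category.assoc, ← Spec.map_comp]
    exact congrArg (fun g => Spec.map g ≫ X.fromSpecStalk x) (CommRingCat.hom_ext hφc)
  have hj2 : j ≫ Spec.map (CommRingCat.ofHom χ) = σ ≫ f' := by
    rw [← hχT, ← Spec.map_comp]
    exact congrArg Spec.map (CommRingCat.hom_ext hφχ)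
  have hτw : Hens2.specOf X x R ≫ f = Spec.map (CommRingCat.ofHom χ) ≫ Hens2.specOf S s RS := by
    rw [Category.assoc, ← hm, ← Category.assoc, ← Category.assoc, ← Spec.map_comp, ← Spec.map_comp]
    exact congrArg (fun g => Spec.map g ≫ S.fromSpecStalk s) (CommRingCat.hom_ext hχc.symm)
  let τ : Spec (CommRingCat.of R) ⟶ X' := cX.lift (Hens2.specOf X x R) (Spec.map (CommRingCat.ofHom χ)) hτw
  have hjτ : j ≫ τ = σ := cX.hom_ext
    (((Category.assoc _ _ _).trans (congrArg (j ≫ ·) (cX.lift_fst _ _ _))).trans hj1)
    (((Category.assoc _ _ _).trans (congrArg (j ≫ ·) (cX.lift_snd _ _ _))).trans hj2)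
  let e : Spec (CommRingCat.of Ω') ⟶ Spec (CommRingCat.of (ResidueField R)) :=
    Spec.map (CommRingCat.ofHom ((ResidueField.lift (LocalRing.ev ξ).hom).comp κψ))
  have hej : Limit.pt ξ ≫ j = e ≫ Ident.cpt R := by
    rw [← Spec.map_comp, Limit.pt, ← Spec.map_comp]
    refine congrArg Spec.map (CommRingCat.hom_ext (RingHom.ext fun r => ?_))
    exact congrArg (ResidueField.lift (LocalRing.ev ξ).hom) (RingHom.congr_fun hφψ r)
  have heτ : (e ≫ Ident.cpt R) ≫ τ = ξ := by
    rw [← hej, Category.assoc, hjτ]
    exact Limit.pt_σ ξ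
  -- lifts of the neighbourhoods
  have hlift : ∀ a : Nbhds.Idx X' ξ, ∃ r : Spec (CommRingCat.of R) ⟶ (Nbhds.diag X' ξ).obj a,
      r ≫ Limit.str ξ a = τ ∧ (e ≫ Ident.cpt R) ≫ r = fiberHom a.2 := by
    intro a
    let U := (EtCoh.bc τ).obj ((Nbhds.nbhd X' ξ).obj a)
    let Q : Spec (CommRingCat.of Ω') ⟶ pullback (Limit.str ξ a) τ :=
      pullback.lift (fiberHom a.2) (e ≫ Ident.cpt R) ((fiberHom_comp a.2).trans heτ.symm)
    have hv : (pullback.snd (Limit.str ξ a) τ).base (Q.base default) =
        (Ident.cpt R).base default := by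
      rw [← Scheme.Hom.comp_apply, pullback.lift_snd, Scheme.Hom.comp_apply]
      exact congrArg (Ident.cpt R).base (Subsingleton.elim _ _)
    obtain ⟨q, hq⟩ := Basic.exists_fiber (X := Spec (CommRingCat.of R)) (Ident.cpt R) U (Q.base default) hv
    obtain ⟨t, ht⟩ := StrictHens.exists_section R U q
    refine ⟨t.left ≫ pullback.fst (Limit.str ξ a) τ, ?_, ?_⟩
    · have h := MorphismProperty.Over.w t
      rw [Category.assoc, pullback.condition]
      exact ((Category.assoc _ _ _).symm.trans (h =≫ _)).trans (Category.id_comp _)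
    · have h1 : Ident.cpt R ≫ t.left = fiberHom q := congrArg (fun z => fiberHom z) ht
      have h2 : Q = e ≫ fiberHom q := comp_eq_of_fiber (pullback.snd (Limit.str ξ a) τ) (fiberHom q)
        (fiberHom_comp q) e Q (pullback.lift_snd _ _ _) hq.symm
      refine Eq.trans ?_ (pullback.lift_fst (fiberHom a.2) (e ≫ Ident.cpt R)
        ((fiberHom_comp a.2).trans heτ.symm))
      change _ = Q ≫ _
      rw [h2, ← h1]
      simp only [Category.assoc]
      rfl
  choose r hr hr' using hlift
  let K : Cone (Nbhds.diag X' ξ) :=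
    { pt := Spec (CommRingCat.of R)
      π := { app := r
             naturality := fun a b g => by
              refine (Category.id_comp _).trans ?_
              have : Etale (Limit.str ξ b) := ((Nbhds.nbhd X' ξ).obj b).prop
              refine Ident.eq_of_agree (Limit.str ξ b) _ _ ?_ (e ≫ Ident.cpt R) ?_ ?_
              · refine (hr b).trans ((hr a).symm.trans ?_)
                exact (congrArg (_ ≫ ·) (Over.w ((Nbhds.nbhd X' ξ).map g).hom).symm).trans
                  (Category.assoc _ _ _).symm
              · rw [Scheme.Hom.comp_apply, Subsingleton.elim (e.base default) default]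
                exact Ident.cpt_base R
              · refine (hr' b).trans ?_
                refine Eq.trans ?_ (Category.assoc _ _ _)
                refine Eq.trans ?_ ((hr' a).symm =≫ _)
                exact (congrArg (fun z => fiberHom z) g.2).symm } }
  let ι : Spec (CommRingCat.of R) ⟶ Nbhds.S X' ξ := (Nbhds.isLimitCone X' ξ).lift K
  have hιfac : ∀ a, ι ≫ (Nbhds.cone X' ξ).π.app a = r a := (Nbhds.isLimitCone X' ξ).fac K
  have hισ : ι ≫ σ = τ := by
    rw [show σ = _ from (Limit.π_str ξ IsCofiltered.nonempty.some).symm, ← Category.assoc, hιfac, hr]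
  have heι : (e ≫ Ident.cpt R) ≫ ι = Limit.pt ξ := by
    refine (Nbhds.isLimitCone X' ξ).hom_ext fun a => ?_
    rw [Category.assoc, hιfac, hr', Limit.pt_π]
  have hjι : j ≫ ι = 𝟙 _ := by
    refine (Nbhds.isLimitCone X' ξ).hom_ext fun a => ?_
    have : Etale (Limit.str ξ a) := ((Nbhds.nbhd X' ξ).obj a).prop
    refine Eq.trans ?_ (Category.id_comp _).symm
    refine Ident.eq_of_agree (T := T) (Limit.str ξ a) _ _ ?_ (Limit.pt ξ) (pt_base ξ) ?_
    · rw [Category.assoc, Limit.π_str, Category.assoc, hισ, hjτ]
    · rw [← Category.assoc, ← Category.assoc, hej, heι]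
  have hιj : ι ≫ j = 𝟙 _ := by
    obtain ⟨g, hg⟩ := Spec.map_surjective (ι ≫ j)
    have h1 : g.hom.comp (algebraMap A R) = algebraMap A R := by
      have : CommRingCat.ofHom (algebraMap A R) ≫ g = CommRingCat.ofHom (algebraMap A R) := by
        apply Spec.map_injective
        rw [← cancel_mono (X.fromSpecStalk x), Spec.map_comp, Category.assoc, hg]
        refine (Category.assoc _ _ _).trans ((congrArg (ι ≫ ·) hj1).trans ?_)
        rw [← Category.assoc, hισ, cX.lift_fst]
      exact congrArg CommRingCat.Hom.hom this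
    have h2 : (residue R).comp g.hom = residue R := by
      have h := congrArg (· ≫ j) heι
      simp only [Category.assoc] at h
      rw [hej, ← hg, ← Spec.map_comp, ← Spec.map_comp, ← Spec.map_comp] at h
      refine RingHom.ext fun z => ?_
      exact ((ResidueField.lift (LocalRing.ev ξ).hom).comp κψ).injective
        (congrArg (fun g : CommRingCat.of R ⟶ CommRingCat.of Ω' => g.hom z) (Spec.map_injective h))
    have h3 : g.hom = RingHom.id R :=
      (StrictLocLift.existsUnique_hom (R := R) (algebraMap A R) (residue R) rfl).unique ⟨h1, h2⟩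
        ⟨RingHom.id_comp _, RingHom.comp_id _⟩
    rw [← hg, show g = 𝟙 _ from CommRingCat.hom_ext h3, Spec.map_id]
  exact ⟨x, hs, R, inferInstance, inferInstance, inferInstance, inferInstance, inferInstance, χ,
    inferInstance, j, ⟨ι, hjι, hιj⟩, hj1, hj2, hχc⟩

end Groth.Agent.Lib.LocAcyc50.Model
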