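import Groth.Agent.Lib.LocAcyc50.Sect
import Groth.Agent.Lib.LocAcyc50.Model
import Groth.Agent.Lib.RpushStalk50.Main
import Groth.Agent.Lib.EtShriek50.Exact
import Groth.Agent.Lib.EtSite.Pull
import Groth.Prelude.Def_SGA4h
import Mathlib.AlgebraicGeometry.Pullbacks

/-!
# Local acyclicity and direct images from a geometric fibre
-/

set_option autoImplicit false
set_option backward.isDefEq.respectTransparency false
set_option linter.style.haveILetI false
set_option linter.unusedSectionVars false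

universe u

open CategoryTheory CategoryTheory.Limits AlgebraicGeometry Opposite
open scoped TensorProduct

namespace Groth.Agent.Lib.LocAcyc50.Main

open Groth.Agent.Lib.EtSite Groth.Agent.Lib.EtSite.Basic Groth.Agent.Lib.EtGerm.Basic
open Groth.Agent.Lib.EtLim50 Groth.Agent.Lib.PBC50 Groth.Agent.Lib.RpushStalk50 Sect

section general

variable {X' Xt : Scheme.{u}} (h : Xt ⟶ X') {Ω' : Type u} [Field Ω'] [IsSepClosed Ω']
  (ξ : Spec (CommRingCat.of Ω') ⟶ X')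

variable [QuasiCompact h] [QuasiSeparated h]

theorem hcpt : ∀ a, CompactSpace ((Limit.W h ξ).obj a).left := fun a =>
  have : IsAffine ((Nbhds.diag X' ξ).obj a) := Nbhds.isAffine_diag X' ξ a
  show CompactSpace ↥(pullback (Limit.str ξ a) h : Scheme.{u}) from
    QuasiCompact.compactSpace_of_compactSpace (pullback.fst (Limit.str ξ a) h)

theorem hqs : ∀ a, QuasiSeparatedSpace ((Limit.W h ξ).obj a).left := fun a =>
  have : IsAffine ((Nbhds.diag X' ξ).obj a) := Nbhds.isAffine_diag X' ξ a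
  show QuasiSeparatedSpace ↥(pullback (Limit.str ξ a) h : Scheme.{u}) from
    quasiSeparatedSpace_of_quasiSeparated (pullback.fst (Limit.str ξ a) h)

/-- The comparison of the two inverse images. -/
noncomputable def b₁ : EtCoh.pull h ⋙ EtCoh.pull (pullback.fst h (Limit.σ ξ)) ≅
    EtCoh.pull (pullback.fst h (Limit.σ ξ) ≫ h) :=
  (EtCore.pullComp _ h).symm ≪≫ EtCore.pullCongr rfl

/-- The comparison of the two inverse images. -/
noncomputable abbrev b₂ : EtCoh.pull (Limit.σ ξ) ⋙ EtCoh.pull (pullback.snd h (Limit.σ ξ)) ≅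
    EtCoh.pull (pullback.fst h (Limit.σ ξ) ≫ h) :=
  (EtCore.pullComp (pullback.snd h (Limit.σ ξ)) (Limit.σ ξ)).symm ≪≫
    EtCore.pullCongr (pullback.condition (f := h) (g := Limit.σ ξ)).symm

theorem isZero_stalk_Rpush (G : EtCoh.Ab X') (n : ℕ)
    (hn : Subsingleton (EtCoh.H (pullback h (Limit.σ ξ))
      ((EtCoh.pull (pullback.snd h (Limit.σ ξ))).obj ((EtCoh.pull (Limit.σ ξ)).obj G)) n)) :
    IsZero ((EtCoh.stalk ξ).obj ((EtCoh.Rpush h n).obj ((EtCoh.pull h).obj G))) := by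
  obtain ⟨e⟩ := RpushStalk50.Main.nonempty_iso h ξ (c := Limit.cone h ξ) (pullback.fst h (Limit.σ ξ))
    (Limit.cone_hq h ξ) (hcpt h ξ) (hqs h ξ) (Limit.isLimitCone h ξ) n
  refine IsZero.of_iso ?_ ((e.app ((EtCoh.pull h).obj G)) ≪≫
    (EtCoh.HF (pullback h (Limit.σ ξ)) n).mapIso ((b₁ h ξ).app G ≪≫ (((EtCore.pullComp (pullback.snd h (Limit.σ ξ)) (Limit.σ ξ)).symm ≪≫ EtCore.pullCongr (pullback.condition (f := h) (g := Limit.σ ξ)).symm).app G).symm))
  exact @AddCommGrpCat.isZero_of_subsingleton _ hn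

theorem unit_germ (G : EtCoh.Ab X') (V : X'.Etale) (r : (Scheme.pointSmallEtale ξ).fiber.obj V)
    (s : EtCoh.sect G V) :
    (EtCoh.stalk ξ).map ((EtCoh.pullPushAdj h).unit.app G) (germ G ξ V r s) =
      germ ((EtCoh.push h).obj ((EtCoh.pull h).obj G)) ξ V r (HensClosed.unitAt h G V s) :=
  ConcreteCategory.congr_hom ((Scheme.pointSmallEtale ξ).toPresheafFiber_naturality
    ((EtCoh.pullPushAdj h).unit.app G).hom V r) s

theorem res_eq_gsec (F : EtCoh.Ab Xt) (a : Nbhds.Idx X' ξ) (u : EtCoh.sect F ((Limit.W h ξ).obj a)) :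
    Sections.res (W := Limit.W h ξ) (c := Limit.cone h ξ) (pullback.fst h (Limit.σ ξ)) (Limit.cone_hq h ξ)
        F a u =
      gsec (pullback.fst h (Limit.σ ξ)) F ((Limit.W h ξ).obj a) ((Limit.cone h ξ).π.app a)
        (Limit.cone_hq h ξ a) u := rfl

theorem cond (a : Nbhds.Idx X' ξ) :
    (pullback.snd h (Limit.σ ξ) ≫ (Nbhds.cone X' ξ).π.app a) ≫ ((Nbhds.nbhd X' ξ).obj a).hom =
      pullback.fst h (Limit.σ ξ) ≫ h := by
  refine (Category.assoc _ _ _).trans ?_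
  rw [show (Nbhds.cone X' ξ).π.app a ≫ ((Nbhds.nbhd X' ξ).obj a).hom = Limit.σ ξ from Limit.π_str ξ a]
  exact pullback.condition.symm

theorem comp_unit (G : EtCoh.Ab X') (a : Nbhds.Idx X' ξ)
    (u : EtCoh.sect ((EtCoh.pull h).obj G) ((EtCoh.bc h).obj ((Nbhds.nbhd X' ξ).obj a))) :
    RpushStalk50.Main.comp h ξ (c := Limit.cone h ξ) (pullback.fst h (Limit.σ ξ)) (Limit.cone_hq h ξ)
        ((EtCoh.pull h).obj G) (germ ((EtCoh.push h).obj ((EtCoh.pull h).obj G)) ξ ((Nbhds.nbhd X' ξ).obj a) a.2 u) =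
      gsec (pullback.fst h (Limit.σ ξ)) ((EtCoh.pull h).obj G) ((EtCoh.bc h).obj ((Nbhds.nbhd X' ξ).obj a))
        (pullback.lift (f := ((Nbhds.nbhd X' ξ).obj a).hom) (g := h)
          (pullback.snd h (Limit.σ ξ) ≫ (Nbhds.cone X' ξ).π.app a) (pullback.fst h (Limit.σ ξ)) (cond h ξ a))
        (pullback.lift_snd _ _ _) u := by
  refine (RpushStalk50.Main.comp_germ h ξ (c := Limit.cone h ξ) (pullback.fst h (Limit.σ ξ)) (Limit.cone_hq h ξ)
    ((EtCoh.pull h).obj G) a u).trans ?_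
  exact res_eq_gsec h ξ ((EtCoh.pull h).obj G) a u

theorem comp_right {Z T : Scheme.{u}} (sn : Z ⟶ T) (σ : T ⟶ X') (f₀ : Z ⟶ X') (w : sn ≫ σ = f₀) (G : EtCoh.Ab X') (V : X'.Etale)
    (t : Z ⟶ V.left) (ht : t ≫ V.hom = f₀) (s : EtCoh.sect G V) :
    (((EtCore.pullComp sn σ).symm ≪≫ EtCore.pullCongr w).app G).hom.hom.app (op (EtCoh.top Z))
      (gsec sn ((EtCoh.pull σ).obj G) ((EtCoh.bc σ).obj V) (pullback.lift (f := V.hom) (g := σ) t sn (ht.trans w.symm))
        (pullback.lift_snd _ _ _) (HensClosed.unitAt σ G V s)) = gsec f₀ G V t ht s :=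
  gsec_comp sn σ f₀ w G V t ht (pullback.lift_snd _ _ _) s

theorem comp_left {Z : Scheme.{u}} (fs : Z ⟶ Xt) (G : EtCoh.Ab X') (V : X'.Etale)
    (t : Z ⟶ V.left) (ht : t ≫ V.hom = fs ≫ h) (s : EtCoh.sect G V) :
    (((EtCore.pullComp fs h).symm ≪≫ EtCore.pullCongr rfl).app G).hom.hom.app (op (EtCoh.top Z))
      (gsec fs ((EtCoh.pull h).obj G) ((EtCoh.bc h).obj V) (pullback.lift (f := V.hom) (g := h) t fs ht)
        (pullback.lift_snd _ _ _) (HensClosed.unitAt h G V s)) = gsec (fs ≫ h) G V t ht s :=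
  gsec_comp fs h (fs ≫ h) rfl G V t ht (pullback.lift_snd _ _ _) s

theorem key (G : EtCoh.Ab X') (a : Nbhds.Idx X' ξ) (s : EtCoh.sect G ((Nbhds.nbhd X' ξ).obj a)) :
    ((b₁ h ξ).app G).hom.hom.app (op (EtCoh.top (pullback h (Limit.σ ξ))))
        (RpushStalk50.Main.comp h ξ (c := Limit.cone h ξ) (pullback.fst h (Limit.σ ξ)) (Limit.cone_hq h ξ)
          ((EtCoh.pull h).obj G) ((EtCoh.stalk ξ).map ((EtCoh.pullPushAdj h).unit.app G)
            (germ G ξ ((Nbhds.nbhd X' ξ).obj a) a.2 s))) =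
      (((EtCore.pullComp (pullback.snd h (Limit.σ ξ)) (Limit.σ ξ)).symm ≪≫ EtCore.pullCongr (pullback.condition (f := h) (g := Limit.σ ξ)).symm).app G).hom.hom.app (op (EtCoh.top (pullback h (Limit.σ ξ))))
        (gtop (pullback.snd h (Limit.σ ξ)) ((EtCoh.pull (Limit.σ ξ)).obj G)
          (Sections.res (W := Nbhds.nbhd X' ξ) (c := Nbhds.cone X' ξ) (Limit.σ ξ) (Limit.π_str ξ) G a s)) := by
  have e₁ := comp_left h (pullback.fst h (Limit.σ ξ)) G
    ((Nbhds.nbhd X' ξ).obj a) (pullback.snd h (Limit.σ ξ) ≫ (Nbhds.cone X' ξ).π.app a) (cond h ξ a) s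
  have e₂ := comp_right (pullback.snd h (Limit.σ ξ)) (Limit.σ ξ) (pullback.fst h (Limit.σ ξ) ≫ h)
    pullback.condition.symm G ((Nbhds.nbhd X' ξ).obj a)
    (pullback.snd h (Limit.σ ξ) ≫ (Nbhds.cone X' ξ).π.app a) (cond h ξ a) s
  refine ((congrArg (fun z => ((b₁ h ξ).app G).hom.hom.app (op (EtCoh.top (pullback h (Limit.σ ξ))))
    (RpushStalk50.Main.comp h ξ (c := Limit.cone h ξ) (pullback.fst h (Limit.σ ξ)) (Limit.cone_hq h ξ)
      ((EtCoh.pull h).obj G) z)) (unit_germ h ξ G _ a.2 s)).trans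
    ((congrArg (((b₁ h ξ).app G).hom.hom.app (op (EtCoh.top (pullback h (Limit.σ ξ)))))
      (comp_unit h ξ G a _)).trans (e₁.trans e₂.symm))).trans ?_
  refine congrArg ((((EtCore.pullComp (pullback.snd h (Limit.σ ξ)) (Limit.σ ξ)).symm ≪≫ EtCore.pullCongr (pullback.condition (f := h) (g := Limit.σ ξ)).symm).app G).hom.hom.app (op (EtCoh.top (pullback h (Limit.σ ξ))))) ?_
  have hsec : (pullback.snd h (Limit.σ ξ) ≫ (Sections.sec (W := Nbhds.nbhd X' ξ) (c := Nbhds.cone X' ξ) (Limit.σ ξ)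
      (Limit.π_str ξ) a).left) ≫ ((EtCoh.bc (Limit.σ ξ)).obj ((Nbhds.nbhd X' ξ).obj a)).hom =
      pullback.snd h (Limit.σ ξ) :=
    (Category.assoc _ _ _).trans ((congrArg (_ ≫ ·) (pullback.lift_snd _ _ _)).trans (Category.comp_id _))
  refine Eq.symm ((gsec_map (pullback.snd h (Limit.σ ξ)) _ (Sections.sec (W := Nbhds.nbhd X' ξ) (c := Nbhds.cone X' ξ) (Limit.σ ξ)
    (Limit.π_str ξ) a) (pullback.snd h (Limit.σ ξ)) (Category.comp_id _) hsec _).trans ?_)
  refine gsec_congr _ _ _ (pullback.hom_ext ?_ ?_) _ _ _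
  · exact ((Category.assoc _ _ _).trans (congrArg (_ ≫ ·) (pullback.lift_fst _ _ _))).trans
      (pullback.lift_fst _ _ _).symm
  · exact (((Category.assoc _ _ _).trans (congrArg (_ ≫ ·) (pullback.lift_snd _ _ _))).trans
      (Category.comp_id _)).trans (pullback.lift_snd _ _ _).symm

theorem exists_pre (G : EtCoh.Ab X') (L : EtCoh.sect ((EtCoh.pull (Limit.σ ξ)).obj G) (EtCoh.top (Nbhds.S X' ξ))) :
    ∃ (a : Nbhds.Idx X' ξ) (s : EtCoh.sect G ((Nbhds.nbhd X' ξ).obj a)),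
      Sections.res (W := Nbhds.nbhd X' ξ) (c := Nbhds.cone X' ξ) (Limit.σ ξ) (Limit.π_str ξ) G a s = L := by
  haveI : ∀ {i j : Nbhds.Idx X' ξ} (f : i ⟶ j), IsAffineHom ((Sections.diag (Nbhds.nbhd X' ξ)).map f) :=
    fun f => Nbhds.isAffineHom_diag X' ξ f
  exact Sections.exists_res_eq (W := Nbhds.nbhd X' ξ) (c := Nbhds.cone X' ξ)
      (q := Limit.σ ξ) (hq := Limit.π_str ξ) (F := G) (t := L)
      (fun j => have : IsAffine ((Nbhds.nbhd X' ξ).obj j).left := Nbhds.isAffine_nbhd X' ξ j; inferInstance)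
      (fun j => have : IsAffine ((Nbhds.nbhd X' ξ).obj j).left := Nbhds.isAffine_nbhd X' ξ j; inferInstance)
      (Nbhds.isLimitCone X' ξ) IsCofiltered.nonempty.some

theorem bijective_stalk_unit (G : EtCoh.Ab X')
    (hB : Function.Bijective (gtop (pullback.snd h (Limit.σ ξ)) ((EtCoh.pull (Limit.σ ξ)).obj G))) :
    Function.Bijective ((EtCoh.stalk ξ).map ((EtCoh.pullPushAdj h).unit.app G)) := by
  let fs := pullback.fst h (Limit.σ ξ)
  let sn := pullback.snd h (Limit.σ ξ)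
  let N := (EtCoh.pull h).obj G
  let comp := RpushStalk50.Main.comp h ξ (c := Limit.cone h ξ) fs (Limit.cone_hq h ξ) N
  have hc : Function.Bijective comp := RpushStalk50.Main.bijective_comp h ξ (c := Limit.cone h ξ) fs
    (Limit.cone_hq h ξ) (hcpt h ξ) (hqs h ξ) (Limit.isLimitCone h ξ) N
  let ι₁ := ((b₁ h ξ).app G).hom.hom.app (op (EtCoh.top (pullback h (Limit.σ ξ))))
  let ι₂ := (((EtCore.pullComp (pullback.snd h (Limit.σ ξ)) (Limit.σ ξ)).symm ≪≫ EtCore.pullCongr (pullback.condition (f := h) (g := Limit.σ ξ)).symm).app G).hom.hom.app (op (EtCoh.top (pullback h (Limit.σ ξ))))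
  have h₁ : Function.Bijective ι₁ := bijective_app ((b₁ h ξ).app G) _
  have h₂ : Function.Bijective ι₂ := bijective_app (((EtCore.pullComp (pullback.snd h (Limit.σ ξ)) (Limit.σ ξ)).symm ≪≫ EtCore.pullCongr (pullback.condition (f := h) (g := Limit.σ ξ)).symm).app G) _
  refine ⟨(injective_iff_map_eq_zero ((EtCoh.stalk ξ).map ((EtCoh.pullPushAdj h).unit.app G)).hom).2
    fun z hz => ?_, fun y => ?_⟩
  · obtain ⟨V, p, s, rfl⟩ := exists_germ G z
    obtain ⟨a, ⟨α⟩⟩ := Nbhds.exists_hom X' ξ ⟨V, p⟩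
    let s₁ : EtCoh.sect G ((Nbhds.nbhd X' ξ).obj a) := G.obj.map α.1.op s
    have hgerm : germ G ξ V p s = germ G ξ ((Nbhds.nbhd X' ξ).obj a) a.2 s₁ :=
      (congrArg (fun r => germ G ξ V r s) α.2).symm.trans (germ_map G ξ α.1 a.2 s).symm
    rw [hgerm] at hz ⊢
    have h0 := key h ξ G a s₁
    rw [show (EtCoh.stalk ξ).map ((EtCoh.pullPushAdj h).unit.app G)
      (germ G ξ ((Nbhds.nbhd X' ξ).obj a) a.2 s₁) = 0 from hz, map_zero, map_zero] at h0
    have hz' : gtop sn ((EtCoh.pull (Limit.σ ξ)).obj G) 0 = 0 := by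
      rw [gtop_eq_pullSec, map_zero]
    have hres : Sections.res (W := Nbhds.nbhd X' ξ) (c := Nbhds.cone X' ξ) (Limit.σ ξ) (Limit.π_str ξ) G a s₁ =
        Sections.res (W := Nbhds.nbhd X' ξ) (c := Nbhds.cone X' ξ) (Limit.σ ξ) (Limit.π_str ξ) G a 0 := by
      refine (hB.1 (((h₂.1 (h0.symm.trans (map_zero ι₂.hom).symm))).trans hz'.symm)).trans ?_
      unfold Sections.res HensClosed.unitAt
      rw [map_zero, map_zero]
    haveI : ∀ {i j : Nbhds.Idx X' ξ} (f : i ⟶ j), IsAffineHom ((Sections.diag (Nbhds.nbhd X' ξ)).map f) :=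
      fun f => Nbhds.isAffineHom_diag X' ξ f
    obtain ⟨k, φ, hk⟩ := Sections.exists_eq_of_res_eq (W := Nbhds.nbhd X' ξ) (c := Nbhds.cone X' ξ)
      (Limit.σ ξ) (Limit.π_str ξ) G
      (fun j => have : IsAffine ((Nbhds.nbhd X' ξ).obj j).left := Nbhds.isAffine_nbhd X' ξ j; inferInstance)
      (Nbhds.isLimitCone X' ξ) s₁ 0 hres
    refine ((congrArg (fun r => germ G ξ _ r s₁) φ.2).symm.trans
      (germ_map G ξ ((Nbhds.incl X' ξ).map φ).1 k.2 s₁).symm).trans ?_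
    exact (congrArg (germ G ξ _ k.2) (hk.trans (map_zero _))).trans (map_zero _)
  · obtain ⟨L₂, hL₂⟩ := h₂.2 (ι₁ (comp y))
    obtain ⟨L, rfl⟩ := hB.2 L₂
    obtain ⟨a, s, rfl⟩ := exists_pre ξ G L
    refine ⟨germ G ξ ((Nbhds.nbhd X' ξ).obj a) a.2 s, hc.1 (h₁.1 ?_)⟩
    exact (key h ξ G a s).trans hL₂

end general

section acyclic

open HRes.Basic

variable {X S : Scheme.{u}} (f : X ⟶ S) (F : EtCoh.Ab X) (s : S) (RS : Type u) [CommRing RS] [IsLocalRing RS]
  [Algebra (S.presheaf.stalk s) RS] [IsLocalHom (algebraMap (S.presheaf.stalk s) RS)]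
  [Hensel.IsStrictHenselization (S.presheaf.stalk s) RS]
  {X' : Scheme.{u}} (f' : X' ⟶ Spec (CommRingCat.of RS)) (p : X' ⟶ X)
  (cX : IsPullback p f' f (Hens2.specOf S s RS))
  (Ω : Type u) [Field Ω] [IsSepClosed Ω] (τ : RS →+* Ω)
  {Xt : Scheme.{u}} (h : Xt ⟶ X') (ft : Xt ⟶ Spec (CommRingCat.of Ω))
  (ct : IsPullback h ft f' (Spec.map (CommRingCat.ofHom τ)))
  {Ω' : Type u} [Field Ω'] [IsSepClosed Ω'] (ξ : Spec (CommRingCat.of Ω') ⟶ X')
  (hξ : (ξ ≫ f').base default = IsLocalRing.closedPoint RS)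

theorem Hpull_of_HpullVia {T T' Y : Scheme.{u}} (a : T' ⟶ T) (t : T ⟶ Y) (t' : T' ⟶ Y) (w : a ≫ t = t')
    (F : EtCoh.Ab Y) (q : ℕ) :
    Function.Bijective (EtCore.HpullVia a t t' w F q) ↔
      Function.Bijective (EtCore.Hpull a ((EtCoh.pull t).obj F) q) :=
  Function.Bijective.of_comp_iff'
    (((EtCoh.HF T' q).mapIso (((EtCore.pullComp a t).symm ≪≫ EtCore.pullCongr w).app F)).addCommGroupIsoToAddEquiv.bijective) _

theorem res_bijective_of_square {Y : Scheme.{u}} (F : EtCoh.Ab Y) (q : ℕ) {A B A' B' : Over Y}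
    (u : A ⟶ B) (v : A' ⟶ B') (eA : A ≅ A') (eB : B ≅ B') (w : u ≫ eB.hom = eA.hom ≫ v)
    (hv : Function.Bijective ((res F q).map v.op)) : Function.Bijective ((res F q).map u.op) := by
  have : u.op = eB.inv.op ≫ v.op ≫ eA.hom.op := by
    rw [← op_comp, ← op_comp, ← w, Category.assoc, Iso.hom_inv_id, Category.comp_id]
  rw [this, Functor.map_comp, Functor.map_comp]
  exact (((res F q).mapIso eA.op).addCommGroupIsoToAddEquiv.bijective.comp hv).comp
    ((res F q).mapIso eB.symm.op).addCommGroupIsoToAddEquiv.bijective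

set_option maxHeartbeats 1000000 in
include cX ct hξ in
theorem good (hla : SGA4h.IsLARel f F) (q : ℕ) :
    Function.Bijective (EtCore.Hpull (pullback.snd h (Limit.σ ξ))
        ((EtCoh.pull (Limit.σ ξ ≫ p)).obj F) q) ∧
      (0 < q → Subsingleton (EtCoh.H (Nbhds.S X' ξ) ((EtCoh.pull (Limit.σ ξ ≫ p)).obj F) q)) := by
  obtain ⟨x, hs, R, _, _, _, _, _, χ, _, j, hj, hj1, hj2, hχ⟩ := Model.exists_model f s RS f' p cX ξ hξ
  subst hs
  haveI := hj
  letI : Algebra RS R := χ.toAlgebra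
  letI : Algebra RS Ω := τ.toAlgebra
  haveI : IsLocalHom (algebraMap RS R) := ‹IsLocalHom χ›
  have hχ' : (algebraMap RS R).comp (algebraMap (S.presheaf.stalk (f.base x)) RS) =
      (algebraMap (X.presheaf.stalk x) R).comp (f.stalkMap x).hom := by
    refine hχ.trans ?_
    rw [TopCat.Presheaf.stalkSpecializes_refl, Category.id_comp]
  let a₀ : Spec (CommRingCat.of (R ⊗[RS] Ω)) ⟶ Spec (CommRingCat.of R) :=
    Spec.map (CommRingCat.ofHom (algebraMap R (R ⊗[RS] Ω)))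
  haveI : PreservesFiniteLimits (EtCoh.pull a₀) := inferInstance
  have hla' := hla x RS R hχ' Ω q
  let bW : Spec (CommRingCat.of (R ⊗[RS] Ω)) ⟶ Spec (CommRingCat.of Ω) :=
    Spec.map (CommRingCat.ofHom (Algebra.TensorProduct.includeRight (R := RS) (A := R) (B := Ω)).toRingHom)
  have cW : IsPullback a₀ bW (Spec.map (CommRingCat.ofHom χ)) (Spec.map (CommRingCat.ofHom τ)) :=
    isPullback_SpecMap_of_isPushout _ _ _ _ (CommRingCat.isPushout_tensorProduct RS R Ω)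
  let sn := pullback.snd h (Limit.σ ξ)
  let fs := pullback.fst h (Limit.σ ξ)
  have cZ' : IsPullback sn (fs ≫ ft) (Limit.σ ξ ≫ f') (Spec.map (CommRingCat.ofHom τ)) :=
    (IsPullback.of_hasPullback h (Limit.σ ξ)).flip.paste_vert ct
  have cZ : IsPullback (sn ≫ j) (fs ≫ ft) (Spec.map (CommRingCat.ofHom χ)) (Spec.map (CommRingCat.ofHom τ)) := by
    refine IsPullback.of_iso cZ' (Iso.refl _) (asIso j) (Iso.refl _) (Iso.refl _) ?_ ?_ ?_ ?_
    · simp
    · simp
    · simp [hj2]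
    · simp
  let e : pullback h (Limit.σ ξ) ≅ Spec (CommRingCat.of (R ⊗[RS] Ω)) := cZ.isoIsPullback _ _ cW
  have he : e.hom ≫ a₀ = sn ≫ j := IsPullback.isoIsPullback_hom_fst _ _ _ _
  let t₀ := Hens2.specOf X x R
  let oR : Over X := Over.mk t₀
  let oW : Over X := Over.mk (a₀ ≫ t₀)
  let oT : Over X := Over.mk (Limit.σ ξ ≫ p)
  let oZ : Over X := Over.mk (sn ≫ Limit.σ ξ ≫ p)
  have hv : Function.Bijective ((res F q).map (Over.homMk a₀ rfl : oW ⟶ oR).op) :=
    (Hpull_of_HpullVia a₀ t₀ (a₀ ≫ t₀) rfl F q).2 hla'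
  let eT : oT ≅ oR := Over.isoMk (asIso j) hj1
  let eZ : oZ ≅ oW := Over.isoMk e (by
    change e.hom ≫ a₀ ≫ t₀ = sn ≫ Limit.σ ξ ≫ p
    rw [← Category.assoc, he, Category.assoc, hj1])
  have hu := res_bijective_of_square F q (Over.homMk sn rfl : oZ ⟶ oT) (Over.homMk a₀ rfl : oW ⟶ oR)
    eZ eT (Over.OverMorphism.ext he.symm) hv
  refine ⟨(Hpull_of_HpullVia sn _ _ rfl F q).1 hu, fun hq => ?_⟩
  haveI : HenselianLocalRing R := Hensel.IsStrictHenselization.henselian (X.presheaf.stalk x)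
  haveI : IsSepClosed (IsLocalRing.ResidueField R) :=
    (Hensel.IsStrictHenselization.isSepClosure (R := X.presheaf.stalk x) (S := R)).sep_closed
  haveI : Subsingleton (EtCoh.H (Spec (CommRingCat.of R)) ((EtCoh.pull t₀).obj F) q) :=
    StrictHens.H_subsingleton R _ q hq
  exact @Equiv.subsingleton _ _ ((res F q).mapIso eT.op).addCommGroupIsoToAddEquiv.toEquiv.symm ‹_›

include cX ct hξ in
theorem main (hla : SGA4h.IsLARel f F) [QuasiCompact h] [QuasiSeparated h] :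
    Function.Bijective ((EtCoh.stalk ξ).map
        ((EtCoh.pullPushAdj h).unit.app ((EtCoh.pull p).obj F))) ∧
      ∀ q, 0 < q → IsZero ((EtCoh.stalk ξ).obj
        ((EtCoh.Rpush h q).obj ((EtCoh.pull h).obj ((EtCoh.pull p).obj F)))) := by
  let M := ((EtCore.pullComp (Limit.σ ξ) p).symm ≪≫ EtCore.pullCongr rfl).app F
  refine ⟨bijective_stalk_unit h ξ _ ?_, fun q hq => isZero_stalk_Rpush h ξ _ q ?_⟩
  · exact gtop_bijective_of_iso _ M.symm
      (gtop_bijective _ _ (good f F s RS f' p cX Ω τ h ft ct ξ hξ hla 0).1)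
  · obtain ⟨hb, hsub⟩ := good f F s RS f' p cX Ω τ h ft ct ξ hξ hla q
    haveI := hsub hq
    haveI : Subsingleton (EtCoh.H (pullback h (Limit.σ ξ)) ((EtCoh.pull (pullback.snd h (Limit.σ ξ))).obj
        ((EtCoh.pull (Limit.σ ξ ≫ p)).obj F)) q) := hb.2.subsingleton
    exact @Equiv.subsingleton _ _ ((EtCoh.HF _ q).mapIso ((EtCoh.pull (pullback.snd h (Limit.σ ξ))).mapIso M)).addCommGroupIsoToAddEquiv.toEquiv ‹_›

end acyclic

end Groth.Agent.Lib.LocAcyc50.Main
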